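import Cfsg.Prelude.Def_SporadicB

set_option autoImplicit false

namespace Cfsg.Agent.ThreeTransp

variable {G : Type*} [Group G] {E : Set G}

theorem sq_one (hE : Cfsg.IsThreeTranspositionSet E) {d : G} (hd : d ∈ E) : d * d = 1 := by
  have h := pow_orderOf_eq_one d
  rwa [hE.1 d hd, pow_two] at h

theorem inv_eq (hE : Cfsg.IsThreeTranspositionSet E) {d : G} (hd : d ∈ E) : d⁻¹ = d :=
  inv_eq_of_mul_eq_one_right (sq_one hE hd)

theorem ne_one (hE : Cfsg.IsThreeTranspositionSet E) {d : G} (hd : d ∈ E) : d ≠ 1 := by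
  intro h
  simpa [h] using hE.1 d hd

theorem mul_self_cancel (hE : Cfsg.IsThreeTranspositionSet E) {d : G} (hd : d ∈ E) (x : G) :
    d * (d * x) = x := by
  rw [← mul_assoc, sq_one hE hd, one_mul]

theorem commute_of_sq (hE : Cfsg.IsThreeTranspositionSet E) {d e : G} (hd : d ∈ E) (he : e ∈ E)
    (h : (d * e) ^ 2 = 1) : Commute d e := by
  rw [pow_two] at h
  have h1 : d * e = (d * e)⁻¹ := eq_inv_of_mul_eq_one_left h
  rwa [mul_inv_rev, inv_eq hE hd, inv_eq hE he] at h1

theorem pow_three_of_not_commute (hE : Cfsg.IsThreeTranspositionSet E) {d e : G} (hd : d ∈ E)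
    (he : e ∈ E) (h : ¬ Commute d e) : (d * e) ^ 3 = 1 :=
  (hE.2 d hd e he).resolve_left fun h2 => h (commute_of_sq hE hd he h2)

theorem orderOf_mul_of_not_commute (hE : Cfsg.IsThreeTranspositionSet E) {d e : G} (hd : d ∈ E)
    (he : e ∈ E) (h : ¬ Commute d e) : orderOf (d * e) = 3 := by
  refine orderOf_eq_prime (pow_three_of_not_commute hE hd he h) ?_
  intro h1
  exact h (commute_of_sq hE hd he (by rw [h1, one_pow]))

/-- The braid relation. -/
theorem braid (hE : Cfsg.IsThreeTranspositionSet E) {d e : G} (hd : d ∈ E)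
    (he : e ∈ E) (h : ¬ Commute d e) : d * e * d = e * d * e := by
  have h3 := pow_three_of_not_commute hE hd he h
  have h4 : d * e * d = (e * d * e)⁻¹ := by
    apply eq_inv_of_mul_eq_one_left
    simpa only [pow_succ, pow_zero, one_mul, mul_assoc] using h3
  rw [h4, mul_inv_rev, mul_inv_rev, inv_eq hE hd, inv_eq hE he, mul_assoc]

theorem commute_of_conj_eq (hE : Cfsg.IsThreeTranspositionSet E) {d x : G} (hd : d ∈ E)
    (h : d * x * d = x) : Commute d x := by
  have h1 : d * x * d * d = x * d := by rw [h]
  rwa [mul_assoc _ d d, sq_one hE hd, mul_one] at h1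

theorem conj_eq_of_commute (hE : Cfsg.IsThreeTranspositionSet E) {d x : G} (hd : d ∈ E)
    (h : Commute d x) : d * x * d = x := by
  rw [h.eq, mul_assoc, sq_one hE hd, mul_one]

theorem centralize_two (hE : Cfsg.IsThreeTranspositionSet E) {a b e : G} (ha : a ∈ E)
    (hb : b ∈ E) (he : e ∈ E) (hab : a ≠ b) (_hcomm : Commute a b) :
    Commute e (a * b) ↔ (Commute e a ∧ Commute e b) := by
  refine ⟨fun h => ?_, fun h => h.1.mul_right h.2⟩
  by_cases hea : Commute e a
  · refine ⟨hea, ?_⟩
    have := hea.mul_right h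
    rwa [mul_self_cancel hE ha] at this
  exfalso
  by_cases heb : Commute e b
  · have := h.mul_right heb
    rw [mul_assoc, sq_one hE hb, mul_one] at this
    exact hea this
  have h1 : (e * a * e) * (e * b * e) = a * b := by
    rw [show (e * a * e) * (e * b * e) = e * (a * (e * e) * b) * e by simp only [mul_assoc],
      sq_one hE he, mul_one, conj_eq_of_commute hE he h]
  rw [← braid hE ha he (fun h => hea h.symm), ← braid hE hb he (fun h => heb h.symm)] at h1
  have h2 : a * (e * (a * b) * e) * b = a * 1 * b := by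
    rw [mul_one]
    simpa only [mul_assoc] using h1
  have h3 : e * (a * b) * e = 1 := mul_left_cancel (mul_right_cancel h2)
  rw [conj_eq_of_commute hE he h] at h3
  exact hab (by rw [eq_inv_of_mul_eq_one_left h3, inv_eq hE hb])

theorem centralize_three (hE : Cfsg.IsThreeTranspositionSet E) {a b c e : G} (ha : a ∈ E)
    (hb : b ∈ E) (hc : c ∈ E) (he : e ∈ E) (hab : a ≠ b) (hac : a ≠ c) (hbc : b ≠ c)
    (h₁ : Commute a b) (h₂ : Commute a c) (h₃ : Commute b c) :
    Commute e (a * b * c) ↔ (Commute e a ∧ Commute e b ∧ Commute e c) := by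
  refine ⟨fun h => ?_, fun h => (h.1.mul_right h.2.1).mul_right h.2.2⟩
  by_cases hea : Commute e a
  · have h4 := hea.mul_right h
    rw [mul_assoc a b c, mul_self_cancel hE ha] at h4
    exact ⟨hea, (centralize_two hE hb hc he hbc h₃).1 h4⟩
  exfalso
  by_cases hec : Commute e c
  · have h4 := h.mul_right hec
    rw [mul_assoc, sq_one hE hc, mul_one] at h4
    exact hea ((centralize_two hE ha hb he hab h₁).1 h4).1
  by_cases heb : Commute e b
  · have h4 := h.mul_right heb
    rw [mul_assoc, ← h₃.eq, mul_assoc a b, mul_self_cancel hE hb] at h4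
    exact hea ((centralize_two hE ha hc he hac h₂).1 h4).1
  have key : (e * a * e) * (e * b * e) * (e * c * e) = a * b * c := by
    rw [show (e * a * e) * (e * b * e) * (e * c * e) = e * (a * (e * e) * b * (e * e) * c) * e by
      simp only [mul_assoc], sq_one hE he, mul_one, mul_one, conj_eq_of_commute hE he h]
  rw [← braid hE ha he (fun h => hea h.symm), ← braid hE hb he (fun h => heb h.symm),
    ← braid hE hc he (fun h => hec h.symm)] at key
  have k1 : e * a * b * e * b * c * e = b := by
    apply mul_left_cancel (a := a)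
    apply mul_right_cancel (b := c)
    simpa only [mul_assoc] using key
  have k2 : a * b * e * b * c = b * e * b := by
    rw [braid hE hb he (fun h => heb h.symm)]
    apply mul_left_cancel (a := e)
    apply mul_right_cancel (b := e)
    rw [show e * (e * b * e) * e = (e * e) * b * (e * e) by simp only [mul_assoc], sq_one hE he,
      one_mul, mul_one]
    simpa only [mul_assoc] using k1
  have k3 : a * e * c = e := by
    apply mul_left_cancel (a := b)
    apply mul_right_cancel (b := b)
    rw [← k2]
    simp only [← mul_assoc]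
    rw [← h₁.eq, mul_assoc _ c b, ← h₃.eq, ← mul_assoc]
  have k4 : c = e * a * e := by
    calc c = (a * e)⁻¹ * (a * e * c) := (inv_mul_cancel_left _ _).symm
      _ = (a * e)⁻¹ * e := by rw [k3]
      _ = e * a * e := by rw [mul_inv_rev, inv_eq hE ha, inv_eq hE he]
  have h5 : a * (e * a * e) = (e * a * e) * a := k4 ▸ h₂
  rw [← braid hE ha he (fun h => hea h.symm)] at h5
  rw [show a * (a * e * a) = e * a by simp only [mul_assoc, mul_self_cancel hE ha],
    show a * e * a * a = a * e by rw [mul_assoc, sq_one hE ha, mul_one]] at h5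
  exact hea h5

end Cfsg.Agent.ThreeTransp
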